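import Groth.Agent.Ega43.LimitDescendIso
import Groth.Agent.Ega43.LimitDescendClosed
import Groth.Agent.Smoothlim.FlatDescend
import Groth.Agent.Smoothlim.SmoothLocusBC

/-!
# Flatness, smoothness and separatedness descend along limits

`descendsLim_flat`, `descendsLim_smooth`, `descendsLim_isSeparated`.
-/

set_option autoImplicit false
set_option backward.isDefEq.respectTransparency false
universe u
open CategoryTheory AlgebraicGeometry Limits

namespace Groth.Agent.Sga3.H515.LimSmooth

open Ega43.LimitDescend Ega43.LimitDescendIso Ega43.LimitDescendClosed Smoothlim.LimBase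

theorem descendsLim_isSeparated : DescendsLim @IsSeparated.{u} := by
  rw [IsSeparated.isSeparated_eq_diagonal_isClosedImmersion]
  exact descendsLim_diagonal descendsLim_isClosedImmersion

theorem descendsLim_flat : DescendsLim @Flat.{u} := by
  intro J _ _ E c hc _ _ _ B X₀ t ht f₀ _ _ _ p hp X q f hX hf
  obtain ⟨j₀⟩ := IsCofiltered.nonempty (C := J)
  have h1 := isPullback_pbCone t ht f₀ c p hp q f hX j₀
  obtain ⟨i, φ, hi⟩ := exists_descend descendsAffine_flat E c hc j₀
    (pullback.snd f₀ (t j₀)) (𝟙 (E.obj j₀)) f (𝟙 c.pt) (c.π.app j₀) _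
    (IsPullback.of_vert_isIso ⟨by simp⟩) h1 ⟨inferInstance, inferInstance⟩ hf
  refine ⟨i, prop_of_isPullback_of_isPullback (P := @Flat)
    (IsPullback.of_hasPullback (pullback.snd f₀ (t j₀)) (pullback.fst (𝟙 (E.obj j₀)) (E.map φ)))
    (isPullback_pbSnd t ht f₀ φ) (asIso (pullback.snd (𝟙 (E.obj j₀)) (E.map φ))) ?_ hi⟩
  rw [asIso_hom, ← pullback.condition, Category.comp_id]

theorem descendsLim_smooth : DescendsLim @Smooth.{u} := by
  intro J _ _ E c hc _ _ _ B X₀ t ht f₀ _ _ _ p hp X q f hX hf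
  have hf' : Smooth f := hf
  obtain ⟨j, hj⟩ := descendsLim_flat E c hc t ht f₀ p hp q f hX (inferInstanceAs (Flat f))
  have hfj : Flat (pullback.snd f₀ (t j)) := hj
  have h1 := isPullback_pbCone t ht f₀ c p hp q f hX j
  obtain ⟨k, φ, hk⟩ := exists_map_eq_top (pbDiagram t ht f₀) (pbCone t ht f₀ c p hp q f hX)
    (isLimitPbCone t ht f₀ c p hp q f hX hc) (i := j) (pullback.snd f₀ (t j)).smoothLocus (by
      rw [eq_top_iff]
      intro x _
      change (pbCone t ht f₀ c p hp q f hX).π.app j x ∈ (pullback.snd f₀ (t j)).smoothLocus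
      rw [← Smoothlim.SmoothLocusBC.mem_smoothLocus_iff_of_isPullback h1 x
        (Or.inl (Flat.stalkMap _ _))]
      rw [Scheme.Hom.smoothLocus_eq_top]
      trivial)
  refine ⟨k, ?_⟩
  rw [← Scheme.Hom.smoothLocus_eq_top_iff, eq_top_iff]
  intro x _
  rw [Smoothlim.SmoothLocusBC.mem_smoothLocus_iff_of_isPullback (isPullback_pbSnd t ht f₀ φ) x
    (Or.inl (Flat.stalkMap _ _))]
  have hx : x ∈ (pbDiagram t ht f₀).map φ ⁻¹ᵁ (pullback.snd f₀ (t j)).smoothLocus := by
    rw [hk]
    trivial
  exact hx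

end Groth.Agent.Sga3.H515.LimSmooth
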