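import Groth.Agent.Sga3.H515.GrpStage
import Groth.Agent.Sga3.H515.LimSmooth
import Groth.Agent.Sga3.H825.GrpModelDef
import Groth.Agent.Flat2D.SpecFGLimit

/-!
# Noetherian descent of homomorphisms of finitely presented group schemes

* `exists_model_of_props`: a homomorphism `u : G ⟶ H` of finitely presented groups over `Spec A`
  comes from a finitely generated subring of `A`, together with finitely many properties of
  `G`, `H` and `u` which descend along limits.
* `exists_noetherian_model`: smoothness of `G`, separatedness of `H`, `u` a monomorphism.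
-/

set_option autoImplicit false
universe u
open CategoryTheory MonoidalCategory CartesianMonoidalCategory MonObj GrpObj AlgebraicGeometry
  Limits Opposite

namespace Groth.Agent.Sga3.H515.GrpModel

open ParGrp BcRaw StageExt GrpStage Sga3B.BcPts Ega43.LimitDescend Ega43.LimitDescendIso

section General

variable {S S' : Scheme.{u}} {f : S' ⟶ S} {G H : Over S}

lemma famOf_homOf (v : G ⊗ Over.mk f ⟶ H) :
    famOf (Iso.refl (Red.bc f G)) (Iso.refl (Red.bc f H)) (homOf v) = v := by
  have h1 : (overIso (snd G (Over.mk f))).inv ≫ tPt f (Over.mk (snd G (Over.mk f)).left) =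
      snd G (Over.mk f) := by
    ext1
    simp
  change (overIso (snd G (Over.mk f))).inv ≫ (bcEquiv f (Over.mk (snd G (Over.mk f)).left) H).symm
    (((bcEquiv f (Over.mk (snd G (Over.mk f)).left) G ((overIso (snd G (Over.mk f))).hom ≫
      fst G (Over.mk f)) ≫ 𝟙 _) ≫ homOf v) ≫ 𝟙 _) = v
  rw [Category.comp_id, Category.comp_id, symm_comp_homOf, Equiv.symm_apply_apply, comp_ap, h1,
    Iso.inv_hom_id_assoc]
  simp [ap]

/-- The base change of a morphism over `S`. -/
lemma isPullback_map_left (g : S' ⟶ S) {X Y : Over S} (w : X ⟶ Y) :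
    IsPullback (pullback.fst X.hom g) ((Over.pullback g).map w).left w.left
      (pullback.fst Y.hom g) := by
  have h1 : IsPullback (pullback.fst Y.hom g) (pullback.snd Y.hom g) Y.hom g :=
    .of_hasPullback _ _
  have h2 : IsPullback (pullback.fst X.hom g) (pullback.snd X.hom g) (w.left ≫ Y.hom) g := by
    rw [Over.w w]
    exact .of_hasPullback _ _
  refine IsPullback.of_bot (v₂₁ := pullback.snd Y.hom g) (v₂₂ := Y.hom) (h₃₁ := g) ?_ ?_ h1
  · have : ((Over.pullback g).map w).left ≫ pullback.snd Y.hom g = pullback.snd X.hom g :=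
      pullback.lift_snd _ _ _
    rw [this]
    exact h2
  · exact (pullback.lift_fst _ _ _).symm

/-- Properties of arrows over `S` are invariant under isomorphisms. -/
lemma prop_iff_of_iso {P : MorphismProperty Scheme.{u}} [P.RespectsIso] {X Y X' Y' : Over S}
    (e : X ≅ X') (e' : Y ≅ Y') (w : X ⟶ Y) (w' : X' ⟶ Y') (h : w ≫ e'.hom = e.hom ≫ w') :
    P w.left ↔ P w'.left :=
  P.arrow_mk_iso_iff (Arrow.isoMk ((Over.forget S).mapIso e) ((Over.forget S).mapIso e')
    (congr($(h).left)).symm)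

lemma bc_lfp (g : S' ⟶ S) (X : Over S) (h : LocallyOfFinitePresentation X.hom) :
    LocallyOfFinitePresentation (Red.bc g X).hom :=
  inferInstanceAs (LocallyOfFinitePresentation (pullback.snd X.hom g))

lemma bc_qc (g : S' ⟶ S) (X : Over S) (h : QuasiCompact X.hom) :
    QuasiCompact (Red.bc g X).hom :=
  inferInstanceAs (QuasiCompact (pullback.snd X.hom g))

lemma bc_qs (g : S' ⟶ S) (X : Over S) (h : QuasiSeparated X.hom) :
    QuasiSeparated (Red.bc g X).hom :=
  inferInstanceAs (QuasiSeparated (pullback.snd X.hom g))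

end General

variable {I : Type u} [SmallCategory I] {D : I ⥤ Scheme.{u}} {c : Cone D}
  {G H : Over c.pt} [GrpObj G] [GrpObj H] {u : G ⟶ H} {i : I}

/-- Restriction of the homomorphism to a later stage is base change. -/
lemma homOf_move (s : Stage c u i) {k : Over i} (a : k ⟶ s.j) :
    (Over.pullback (D.map a.left)).map (homOf s.v) ≫
        (theta (f := D.map s.j.hom) (D.map a.left) (D.map k.hom)
          (by rw [← D.map_comp, Over.w a]) s.H₀).hom =
      (theta (f := D.map s.j.hom) (D.map a.left) (D.map k.hom)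
        (by rw [← D.map_comp, Over.w a]) s.G₀).hom ≫ homOf (s.move a).v := by
  have h := map_homOf_comp (G := s.G₀) (H := s.H₀) (f := D.map s.j.hom) (D.map a.left)
    (D.map k.hom) (by rw [← D.map_comp, Over.w a]) (Iso.refl _) (Iso.refl _) (tr a) rfl
    (homOf (s.move a).v) s.v (famOf_homOf _).symm
  simp only [Iso.refl_hom, Category.comp_id] at h
  exact h

/-- Pullback square of a model. -/
lemma isPullback_ε {G : Over c.pt} {G₀ : Over (D.obj i)} (ε : Red.bc (c.π.app i) G₀ ≅ G) :
    IsPullback (ε.inv.left ≫ pullback.fst G₀.hom (c.π.app i)) G.hom G₀.hom (c.π.app i) := by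
  have h1 : IsPullback (pullback.fst G₀.hom (c.π.app i)) (pullback.snd G₀.hom (c.π.app i)) G₀.hom
    (c.π.app i) := .of_hasPullback _ _
  refine IsPullback.of_iso h1 ((Over.forget _).mapIso ε) (Iso.refl _) (Iso.refl _) (Iso.refl _)
    ?_ ?_ (by simp) (by simp)
  · simp only [Functor.mapIso_hom, Over.forget_map, Iso.refl_hom, Category.comp_id]
    rw [← Category.assoc, ← Over.comp_left, ε.hom_inv_id, Over.id_left]
    exact (Category.id_comp _).symm
  · simp only [Functor.mapIso_hom, Over.forget_map, Iso.refl_hom, Category.comp_id]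
    exact (Over.w ε.hom).symm

/-- A property at a stage holds at later stages. -/
lemma prop_stage {P : MorphismProperty Scheme.{u}} [P.IsStableUnderBaseChange]
    {G₀ : Over (D.obj i)} {k k' : Over i} (a : k' ⟶ k) (h : P (Red.bc (D.map k.hom) G₀).hom) :
    P (Red.bc (D.map k'.hom) G₀).hom := by
  have h1 : IsPullback (pullback.lift (pullback.fst G₀.hom (D.map k'.hom))
      (pullback.snd G₀.hom (D.map k'.hom) ≫ D.map a.left) (by
        rw [Category.assoc, ← D.map_comp, Over.w a, pullback.condition]))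
      (pullback.snd G₀.hom (D.map k'.hom)) (pullback.snd G₀.hom (D.map k.hom)) (D.map a.left) := by
    refine IsPullback.of_right (h₁₂ := pullback.fst G₀.hom (D.map k.hom)) (h₂₂ := D.map k.hom)
      (v₁₃ := G₀.hom) ?_ (pullback.lift_snd _ _ _) (.of_hasPullback _ _)
    rw [pullback.lift_fst, ← D.map_comp, Over.w a]
    exact .of_hasPullback _ _
  exact P.of_isPullback h1 h

lemma move_move_v (s : Stage c u i) {k k' : Over i} (a : k ⟶ s.j) (a' : k' ⟶ k) :
    ((s.move a).move a').v = (s.move (a' ≫ a)).v := by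
  change s.G₀ ◁ tr a' ≫ s.G₀ ◁ tr a ≫ s.v = s.G₀ ◁ tr (a' ≫ a) ≫ s.v
  rw [← Category.assoc, ← MonoidalCategory.whiskerLeft_comp]
  congr 2
  exact ((stF D i).map_comp a' a).symm

/-- The homomorphism at a later stage, up to isomorphism. -/
lemma prop_move {P : MorphismProperty Scheme.{u}} [P.RespectsIso] (s : Stage c u i)
    {k : Over i} (a : k ⟶ s.j) :
    P ((Over.pullback (D.map a.left)).map (homOf s.v)).left ↔ P (homOf (s.move a).v).left :=
  prop_iff_of_iso _ _ _ _ (homOf_move s a)

/-- A property of the homomorphism is preserved when the stage is enlarged. -/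
lemma prop_move_of_prop {P : MorphismProperty Scheme.{u}} [P.IsStableUnderBaseChange]
    (s : Stage c u i) {k : Over i} (a : k ⟶ s.j) (h : P (homOf s.v).left) :
    P (homOf (s.move a).v).left := by
  have := MorphismProperty.IsStableUnderBaseChange.respectsIso (P := P)
  refine (prop_move s a).mp ?_
  exact P.of_isPullback (isPullback_map_left (D.map a.left) (homOf s.v)) h

variable [IsCofiltered I] [∀ (i j : I) (f : i ⟶ j), IsAffineHom (D.map f)]
    [∀ i, CompactSpace (D.obj i)] [∀ i, QuasiSeparatedSpace (D.obj i)]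

/-- A property of `G` descends to a stage. -/
lemma exists_stage_prop (hc : IsLimit c) {P : MorphismProperty Scheme.{u}}
    (hP : DescendsLim P) {G : Over c.pt} {G₀ : Over (D.obj i)}
    [LocallyOfFinitePresentation G₀.hom] [QuasiCompact G₀.hom] [QuasiSeparated G₀.hom]
    (ε : Red.bc (c.π.app i) G₀ ≅ G) (h : P G.hom) :
    ∃ k : Over i, P (Red.bc (D.map k.hom) G₀).hom := by
  exact hP (Over.forget i ⋙ D) (overCone c i) (isLimitOverCone c hc i)
    (fun j ↦ D.map j.hom) (fun φ ↦ overT_w D i φ) G₀.hom (c.π.app i) (fun j ↦ c.w j.hom) _ _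
    (isPullback_ε ε) h

/-- A property of `u` descends to a stage. -/
lemma exists_move_prop (hc : IsLimit c) {P : MorphismProperty Scheme.{u}}
    [P.IsStableUnderBaseChange] (hP : DescendsLim P) (s : Stage c u i) (h : P u.left) :
    ∃ (k : Over i) (a : k ⟶ s.j), P (homOf (s.move a).v).left := by
  have := MorphismProperty.IsStableUnderBaseChange.respectsIso (P := P)
  have := s.lfpG
  have := s.qcG
  have := s.qsG
  have := s.lfpH
  have := s.qcH
  have := s.qsH
  let g : c.pt ⟶ D.obj s.j.left := c.π.app s.j.left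
  have hgf : g ≫ D.map s.j.hom = c.π.app i := c.w s.j.hom
  have hw := map_homOf_comp (G := s.G₀) (H := s.H₀) (f := D.map s.j.hom) g
    (c.π.app i) hgf s.εG s.εH (pr c s.j) rfl u s.v s.hvu
  have hPw : P ((Over.pullback g).map (homOf s.v)).left :=
    (prop_iff_of_iso (theta g (c.π.app i) hgf s.G₀ ≪≫ s.εG) (theta g (c.π.app i) hgf s.H₀ ≪≫ s.εH)
      _ _ hw).mpr h
  let Xj := Red.bc (D.map s.j.hom) s.G₀
  let Yj := Red.bc (D.map s.j.hom) s.H₀
  let w : Xj ⟶ Yj := homOf s.v
  have a1 : LocallyOfFinitePresentation Yj.hom :=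
    inferInstanceAs (LocallyOfFinitePresentation (pullback.snd s.H₀.hom (D.map s.j.hom)))
  have a2 : QuasiCompact Yj.hom :=
    inferInstanceAs (QuasiCompact (pullback.snd s.H₀.hom (D.map s.j.hom)))
  have a3 : QuasiSeparated Yj.hom :=
    inferInstanceAs (QuasiSeparated (pullback.snd s.H₀.hom (D.map s.j.hom)))
  have b1 : LocallyOfFinitePresentation Xj.hom :=
    inferInstanceAs (LocallyOfFinitePresentation (pullback.snd s.G₀.hom (D.map s.j.hom)))
  have b2 : QuasiCompact Xj.hom :=
    inferInstanceAs (QuasiCompact (pullback.snd s.G₀.hom (D.map s.j.hom)))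
  have b3 : QuasiSeparated Xj.hom :=
    inferInstanceAs (QuasiSeparated (pullback.snd s.G₀.hom (D.map s.j.hom)))
  have c1 : LocallyOfFinitePresentation (w.left ≫ Yj.hom) := by rwa [Over.w w]
  have c2 : QuasiCompact (w.left ≫ Yj.hom) := by rwa [Over.w w]
  have c3 : QuasiSeparated (w.left ≫ Yj.hom) := by rwa [Over.w w]
  obtain ⟨i', φ, Xi, Yi, fi, gi, pY, pX, hpY, hpX, hfi⟩ := exists_descend_of_descendsLim' hP D c hc
    s.j.left w.left Yj.hom ((Over.pullback g).map w).left (pullback.snd Yj.hom g)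
    (pullback.fst Yj.hom g) (pullback.fst Xj.hom g)
    (IsPullback.of_hasPullback _ _) (isPullback_map_left g w) hPw
  let k : Over i := Over.mk (φ ≫ s.j.hom)
  let a : k ⟶ s.j := Over.homMk φ
  refine ⟨k, a, ?_⟩
  refine (prop_move s a).mp ?_
  have h1 : IsPullback (pullback.fst Yj.hom (D.map φ)) (pullback.snd Yj.hom (D.map φ)) Yj.hom
    (D.map φ) := .of_hasPullback _ _
  exact prop_of_isPullback_of_isPullback (P := P) hpX (isPullback_map_left (D.map φ) w)
    (hpY.isoIsPullback _ _ h1) (hpY.isoIsPullback_hom_fst _ _ h1) hfi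

section Final

variable {ιG ιH ιu : Type} [Finite ιG] [Finite ιH] [Finite ιu]
  (PG : ιG → MorphismProperty Scheme.{u}) (PH : ιH → MorphismProperty Scheme.{u})
  (Pu : ιu → MorphismProperty Scheme.{u})

variable (u) in
/-- Models with finitely many properties. -/
theorem exists_stage_of_props (hc : IsLimit c) [IsMonHom u]
    [LocallyOfFinitePresentation G.hom] [QuasiCompact G.hom] [QuasiSeparated G.hom]
    [LocallyOfFinitePresentation H.hom] [QuasiCompact H.hom] [QuasiSeparated H.hom]
    (hG : ∀ a, DescendsLim (PG a)) (hG' : ∀ a, (PG a).IsStableUnderBaseChange)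
    (hH : ∀ a, DescendsLim (PH a)) (hH' : ∀ a, (PH a).IsStableUnderBaseChange)
    (hu : ∀ a, DescendsLim (Pu a)) (hu' : ∀ a, (Pu a).IsStableUnderBaseChange) :
    ∃ (i : I) (s : Stage c u i), (∀ a, PG a G.hom → PG a (Red.bc (D.map s.j.hom) s.G₀).hom) ∧
      (∀ a, PH a H.hom → PH a (Red.bc (D.map s.j.hom) s.H₀).hom) ∧
      (∀ a, Pu a u.left → Pu a (homOf s.v).left) := by
  obtain ⟨i, ⟨s⟩⟩ := exists_stage u hc
  have := s.lfpG
  have := s.qcG
  have := s.qsG
  have := s.lfpH
  have := s.qcH
  have := s.qsH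
  -- properties of `G`
  have h1 : ∀ a, ∃ (k : Over i) (_ : k ⟶ s.j), PG a G.hom → PG a (Red.bc (D.map k.hom) s.G₀).hom := by
    intro a
    have := hG' a
    by_cases h : PG a G.hom
    · obtain ⟨k, hk⟩ := exists_stage_prop hc (hG a) s.εG h
      obtain ⟨k', b1, b2, -⟩ := IsCofilteredOrEmpty.cone_objs k s.j
      exact ⟨k', b2, fun _ => prop_stage b1 hk⟩
    · exact ⟨s.j, 𝟙 _, fun h' => absurd h' h⟩
  have h2 : ∀ a, ∃ (k : Over i) (_ : k ⟶ s.j), PH a H.hom → PH a (Red.bc (D.map k.hom) s.H₀).hom := by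
    intro a
    have := hH' a
    by_cases h : PH a H.hom
    · obtain ⟨k, hk⟩ := exists_stage_prop hc (hH a) s.εH h
      obtain ⟨k', b1, b2, -⟩ := IsCofilteredOrEmpty.cone_objs k s.j
      exact ⟨k', b2, fun _ => prop_stage b1 hk⟩
    · exact ⟨s.j, 𝟙 _, fun h' => absurd h' h⟩
  have h3 : ∀ a, ∃ (k : Over i) (b : k ⟶ s.j), Pu a u.left → Pu a (homOf (s.move b).v).left := by
    intro a
    have := hu' a
    by_cases h : Pu a u.left
    · obtain ⟨k, b, hk⟩ := exists_move_prop hc (hu a) s h
      exact ⟨k, b, fun _ => hk⟩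
    · exact ⟨s.j, 𝟙 _, fun h' => absurd h' h⟩
  choose kG bG hkG using h1
  choose kH bH hkH using h2
  choose ku bu hku using h3
  obtain ⟨k1, f1, g1, hg1⟩ := IsCofiltered.wideCospan bG
  obtain ⟨k2, f2, g2, hg2⟩ := IsCofiltered.wideCospan bH
  obtain ⟨k3, f3, g3, hg3⟩ := IsCofiltered.wideCospan bu
  obtain ⟨k4, e1, e2, -⟩ := IsCofiltered.cospan f1 f2
  obtain ⟨k, d4, d3, hd⟩ := IsCofiltered.cospan (e1 ≫ f1) f3
  refine ⟨i, s.move (d3 ≫ f3), ?_, ?_, ?_⟩
  · intro a h
    have := hG' a
    exact prop_stage (d4 ≫ e1 ≫ g1 a) (hkG a h)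
  · intro a h
    have := hH' a
    exact prop_stage (d4 ≫ e2 ≫ g2 a) (hkH a h)
  · intro a h
    have := hu' a
    have h5 := prop_move_of_prop (P := Pu a) (s.move (bu a)) (k := k) (d3 ≫ g3 a) (hku a h)
    have h6 := move_move_v s (bu a) (k' := k) (d3 ≫ g3 a)
    rw [Category.assoc, hg3] at h6
    have h7 := congr(Pu a (homOf $h6).left)
    exact h7.mp h5

end Final

section Spec

open Flat2D.SpecFGLimit

/-- The cone with vertex `Spec A` over the spectra of finitely generated subrings. -/
noncomputable abbrev cone (A : Type u) [CommRing A] : Cone (specDiagram A) where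
  pt := Spec (CommRingCat.of A)
  π := (specCone A).π

/-- It is a limit cone. -/
noncomputable def isLimitCone (A : Type u) [CommRing A] : IsLimit (cone A) := isLimitSpecCone A

variable {A : Type u} [CommRing A] {G H : Over (Spec (CommRingCat.of A))}
    [GrpObj G] [GrpObj H] {u : G ⟶ H} {i : (FGSub A)ᵒᵖ}

/-- The model attached to a stage. -/
noncomputable def toModel (s : Stage (cone A) u i) :
    H825.GrpModelDef.HomModel u s.j.left.unop.1 s.j.left.unop.1.val.toRingHom :=
  { G₀ := Red.bc ((specDiagram A).map s.j.hom) s.G₀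
    H₀ := Red.bc ((specDiagram A).map s.j.hom) s.H₀
    grpG := grpObj s.hr
    grpH := grpObj s.hr'
    u₀ := homOf s.v
    isMonHom := isMonHom_homOf s.hr s.hr' s.hv
    eG := theta _ _ ((cone A).w s.j.hom) s.G₀ ≪≫ s.εG
    eH := theta _ _ ((cone A).w s.j.hom) s.H₀ ≪≫ s.εH
    isMonHomG := isMonHom_theta _ _ ((cone A).w s.j.hom) s.hr s.εG (pr _ s.j) rfl s.hrG
    isMonHomH := isMonHom_theta _ _ ((cone A).w s.j.hom) s.hr' s.εH (pr _ s.j) rfl s.hrH
    w := map_homOf_comp _ _ ((cone A).w s.j.hom) s.εG s.εH (pr _ s.j) rfl u s.v s.hvu }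

variable (u) in
/-- Models over finitely generated subrings, with finitely many properties. -/
theorem exists_model_of_props [IsMonHom u]
    [LocallyOfFinitePresentation G.hom] [QuasiCompact G.hom] [QuasiSeparated G.hom]
    [LocallyOfFinitePresentation H.hom] [QuasiCompact H.hom] [QuasiSeparated H.hom]
    {ιG ιH ιu : Type} [Finite ιG] [Finite ιH] [Finite ιu]
    (PG : ιG → MorphismProperty Scheme.{u}) (PH : ιH → MorphismProperty Scheme.{u})
    (Pu : ιu → MorphismProperty Scheme.{u})
    (hG : ∀ a, DescendsLim (PG a)) (hG' : ∀ a, (PG a).IsStableUnderBaseChange)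
    (hH : ∀ a, DescendsLim (PH a)) (hH' : ∀ a, (PH a).IsStableUnderBaseChange)
    (hu : ∀ a, DescendsLim (Pu a)) (hu' : ∀ a, (Pu a).IsStableUnderBaseChange) :
    ∃ (S : Subalgebra ℤ A) (_ : S.FG) (M : H825.GrpModelDef.HomModel u S S.val.toRingHom),
      LocallyOfFinitePresentation M.G₀.hom ∧ QuasiCompact M.G₀.hom ∧ QuasiSeparated M.G₀.hom ∧
      LocallyOfFinitePresentation M.H₀.hom ∧ QuasiCompact M.H₀.hom ∧ QuasiSeparated M.H₀.hom ∧
      (∀ a, PG a G.hom → PG a M.G₀.hom) ∧ (∀ a, PH a H.hom → PH a M.H₀.hom) ∧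
      (∀ a, Pu a u.left → Pu a M.u₀.left) := by
  have i1 : ∀ (i j : (FGSub A)ᵒᵖ) (φ : i ⟶ j), IsAffineHom ((specDiagram A).map φ) :=
    fun i j φ => inferInstance
  have i2 : ∀ i, CompactSpace ((specDiagram A).obj i) := fun i => inferInstance
  have i3 : ∀ i, QuasiSeparatedSpace ((specDiagram A).obj i) := fun i => inferInstance
  obtain ⟨i, s, h1, h2, h3⟩ := exists_stage_of_props u PG PH Pu (isLimitCone A) hG hG' hH hH' hu hu'
  refine ⟨s.j.left.unop.1, s.j.left.unop.2, toModel s, ?_, ?_, ?_, ?_, ?_, ?_, h1, h2, h3⟩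
  · exact bc_lfp _ _ s.lfpG
  · exact bc_qc _ _ s.qcG
  · exact bc_qs _ _ s.qsG
  · exact bc_lfp _ _ s.lfpH
  · exact bc_qc _ _ s.qcH
  · exact bc_qs _ _ s.qsH

variable (u) in
/-- Noetherian descent of a homomorphism of finitely presented group schemes. -/
theorem exists_fg_model [IsMonHom u]
    [LocallyOfFinitePresentation G.hom] [QuasiCompact G.hom] [QuasiSeparated G.hom]
    [LocallyOfFinitePresentation H.hom] [QuasiCompact H.hom] [QuasiSeparated H.hom] :
    ∃ (S : Subalgebra ℤ A) (_ : S.FG) (M : H825.GrpModelDef.HomModel u S S.val.toRingHom),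
      LocallyOfFinitePresentation M.G₀.hom ∧ QuasiCompact M.G₀.hom ∧ QuasiSeparated M.G₀.hom ∧
      LocallyOfFinitePresentation M.H₀.hom ∧ QuasiCompact M.H₀.hom ∧ QuasiSeparated M.H₀.hom ∧
      (Flat G.hom → Flat M.G₀.hom) ∧ (Smooth G.hom → Smooth M.G₀.hom) ∧
      (IsSeparated G.hom → IsSeparated M.G₀.hom) ∧
      (Flat H.hom → Flat M.H₀.hom) ∧ (Smooth H.hom → Smooth M.H₀.hom) ∧
      (IsSeparated H.hom → IsSeparated M.H₀.hom) ∧ (Mono u → Mono M.u₀) := by
  let P3 : Fin 3 → MorphismProperty Scheme.{u} := ![@Flat, @Smooth, @IsSeparated]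
  have hP3 : ∀ a, DescendsLim (P3 a) := by
    intro a
    fin_cases a
    · exact LimSmooth.descendsLim_flat
    · exact LimSmooth.descendsLim_smooth
    · exact LimSmooth.descendsLim_isSeparated
  have hP3' : ∀ a, (P3 a).IsStableUnderBaseChange := by
    intro a
    fin_cases a
    · exact inferInstanceAs (MorphismProperty.IsStableUnderBaseChange @Flat)
    · exact inferInstanceAs (MorphismProperty.IsStableUnderBaseChange @Smooth)
    · exact inferInstanceAs (MorphismProperty.IsStableUnderBaseChange @IsSeparated)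
  obtain ⟨S, hS, M, h1, h2, h3, h4, h5, h6, h7, h8, h9⟩ := exists_model_of_props u P3 P3
    (fun _ : Unit => MorphismProperty.monomorphisms Scheme.{u}) hP3 hP3' hP3 hP3'
    (fun _ => descendsLim_monomorphisms) (fun _ => inferInstance)
  refine ⟨S, hS, M, h1, h2, h3, h4, h5, h6, h7 0, h7 1, h7 2, h8 0, h8 1, h8 2, fun hm => ?_⟩
  have h10 : Mono M.u₀.left := h9 () (inferInstanceAs (Mono ((Over.forget _).map u)))
  exact (Over.forget _).mono_of_mono_map h10

/-- Noetherian descent of a homomorphism of finitely presented group schemes. -/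
theorem exists_noetherian_model {A : Type u} [CommRing A] (G H : Over (Spec (CommRingCat.of A)))
    [GrpObj G] [GrpObj H] [LocallyOfFinitePresentation G.hom] [QuasiCompact G.hom]
    [QuasiSeparated G.hom]
    [LocallyOfFinitePresentation H.hom] [QuasiCompact H.hom] [QuasiSeparated H.hom]
    (u : G ⟶ H) [IsMonHom u] :
    ∃ (A₀ : Type u) (_ : CommRing A₀) (_ : IsNoetherianRing A₀) (φ : A₀ →+* A)
      (M : H825.GrpModelDef.HomModel u A₀ φ),
      LocallyOfFinitePresentation M.G₀.hom ∧ QuasiCompact M.G₀.hom ∧ QuasiSeparated M.G₀.hom ∧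
      LocallyOfFinitePresentation M.H₀.hom ∧ QuasiCompact M.H₀.hom ∧ QuasiSeparated M.H₀.hom ∧
      (Smooth G.hom → Smooth M.G₀.hom) ∧ (Mono u → Mono M.u₀) ∧
      (IsSeparated H.hom → IsSeparated M.H₀.hom) := by
  obtain ⟨S, hS, M, h1, h2, h3, h4, h5, h6, h7, h8, h9, h10, h11, h12, h13⟩ := exists_fg_model u
  have hN : IsNoetherianRing S := by
    have := (Subalgebra.fg_iff_finiteType _).1 hS
    exact Algebra.FiniteType.isNoetherianRing ℤ _
  exact ⟨S, inferInstance, hN, S.val.toRingHom, M, h1, h2, h3, h4, h5, h6, h8, h13, h12⟩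

end Spec

end Groth.Agent.Sga3.H515.GrpModel
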