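import Groth.Agent.Sga3.H515.ParGrp
import Groth.Agent.Sga3B.BcPts
import Groth.Agent.Sga3B.Pts
import Mathlib.CategoryTheory.Monoidal.Cartesian.Grp

/-!
# Group laws with parameters and group structures on base changes

For `f : S' ⟶ S` and `G : Over S` a group law on `G` parametrised by `Over.mk f` is the same as a
group structure on `Red.bc f G`.
-/

set_option autoImplicit false
universe u
open CategoryTheory MonoidalCategory CartesianMonoidalCategory MonObj GrpObj AlgebraicGeometry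
  Opposite

namespace Groth.Agent.Sga3.H515.BcRaw

open ParGrp Sga3B.BcPts

variable {S S' : Scheme.{u}} {f : S' ⟶ S}

/-- The tautological point of `Over.mk f` with values in an `S'`-scheme. -/
noncomputable def tPt (f : S' ⟶ S) (Z : Over S') : (Over.map f).obj Z ⟶ Over.mk f :=
  Over.homMk Z.hom

@[simp] lemma tPt_left (Z : Over S') : (tPt f Z).left = Z.hom := rfl

@[reassoc]
lemma map_tPt {Z Z' : Over S'} (h : Z' ⟶ Z) : (Over.map f).map h ≫ tPt f Z = tPt f Z' := by
  ext1
  simp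

lemma bcEquiv_symm_left {T : Over S'} {X : Over S} (y : T ⟶ Red.bc f X) :
    ((bcEquiv f T X).symm y).left = y.left ≫ Limits.pullback.fst X.hom f := by
  rw [bcEquiv, Adjunction.homEquiv_counit, Over.mapPullbackAdj_counit_app, Over.comp_left]
  rfl

variable {G H : Over S}

section OfRaw

variable {r : Raw G (Over.mk f)} (hr : r.IsGrp)

/-- The presheaf of groups attached to a group law with parameter `f`. -/
noncomputable def psh : (Over S')ᵒᵖ ⥤ GrpCat.{u} where
  obj Z := letI := hr.group (tPt f Z.unop); GrpCat.of ((Over.map f).obj Z.unop ⟶ G)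
  map {Z Z'} h :=
    letI := hr.group (tPt f Z.unop)
    letI := hr.group (tPt f Z'.unop)
    GrpCat.ofHom (MonoidHom.mk'
      (fun x : (Over.map f).obj Z.unop ⟶ G => ((Over.map f).map h.unop ≫ x :
        (Over.map f).obj Z'.unop ⟶ G)) (fun a b => by
        change (Over.map f).map h.unop ≫ r.mul (tPt f Z.unop) a b = r.mul (tPt f Z'.unop) _ _
        rw [Raw.comp_mul, map_tPt]))
  map_id Z := by
    refine ConcreteCategory.hom_ext _ _ fun x => ?_
    change (Over.map f).map (𝟙 Z.unop) ≫ x = x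
    rw [CategoryTheory.Functor.map_id]
    exact Category.id_comp _
  map_comp {Z Z' Z''} a b := by
    refine ConcreteCategory.hom_ext _ _ fun x => ?_
    change (Over.map f).map (b.unop ≫ a.unop) ≫ x =
      (Over.map f).map b.unop ≫ (Over.map f).map a.unop ≫ x
    rw [CategoryTheory.Functor.map_comp]
    exact Category.assoc _ _ _

/-- `Red.bc f G` represents the presheaf `psh`. -/
noncomputable def rep : (psh hr ⋙ forget _).RepresentableBy (Red.bc f G) where
  homEquiv {Z} := (bcEquiv f Z G).symm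
  homEquiv_comp h x := comp_bcEquiv_symm f h x

/-- The group structure on `Red.bc f G`. -/
@[reducible]
noncomputable def grpObj : GrpObj (Red.bc f G) := GrpObj.ofRepresentableBy _ (psh hr) (rep hr)

lemma symm_mul {Z : Over S'} (x y : Z ⟶ Red.bc f G) :
    letI := grpObj hr
    (bcEquiv f Z G).symm (x * y) =
      r.mul (tPt f Z) ((bcEquiv f Z G).symm x) ((bcEquiv f Z G).symm y) := by
  let := grpObj hr
  exact ((yonedaGrpObjIsoOfRepresentableBy (Red.bc f G) (psh hr) (rep hr)).hom.app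
    (op Z)).hom.map_mul x y

end OfRaw

section ToRaw

variable {X X' : Over S'} (ε : Red.bc f G ≅ X) (ε' : Red.bc f H ≅ X')

/-- Points of `G` over a point `t` of `Over.mk f` are points of `X`. -/
noncomputable def ptEquiv {Y : Over S} (t : Y ⟶ Over.mk f) : (Y ⟶ G) ≃ (Over.mk t.left ⟶ X) where
  toFun a := bcEquiv f (Over.mk t.left) G ((overIso t).hom ≫ a) ≫ ε.hom
  invFun x := (overIso t).inv ≫ (bcEquiv f (Over.mk t.left) G).symm (x ≫ ε.inv)
  left_inv a := by simp
  right_inv x := by simp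

/-- Functoriality of `Over.mk t.left`. -/
noncomputable def mkMap {Y Y' : Over S} (h : Y' ⟶ Y) (t : Y ⟶ Over.mk f) :
    Over.mk (h ≫ t).left ⟶ Over.mk t.left := Over.homMk h.left (by simp)

lemma overIso_comp {Y Y' : Over S} (h : Y' ⟶ Y) (t : Y ⟶ Over.mk f) :
    (overIso (h ≫ t)).hom ≫ h = (Over.map f).map (mkMap h t) ≫ (overIso t).hom := by
  ext1
  simp [mkMap, overIso]

lemma ptEquiv_comp {Y Y' : Over S} (h : Y' ⟶ Y) (t : Y ⟶ Over.mk f) (a : Y ⟶ G) :
    ptEquiv ε (h ≫ t) (h ≫ a) = mkMap h t ≫ ptEquiv ε t a := by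
  change bcEquiv f _ G ((overIso (h ≫ t)).hom ≫ h ≫ a) ≫ ε.hom =
    mkMap h t ≫ bcEquiv f _ G ((overIso t).hom ≫ a) ≫ ε.hom
  rw [← Category.assoc, overIso_comp, Category.assoc, comp_bcEquiv, Category.assoc]

lemma ptEquiv_symm_comp {Y Y' : Over S} (h : Y' ⟶ Y) (t : Y ⟶ Over.mk f)
    (x : Over.mk t.left ⟶ X) :
    h ≫ (ptEquiv ε t).symm x = (ptEquiv ε (h ≫ t)).symm (mkMap h t ≫ x) := by
  apply (ptEquiv ε (h ≫ t)).injective
  rw [ptEquiv_comp, Equiv.apply_symm_apply, Equiv.apply_symm_apply]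

variable [GrpObj X] [GrpObj X']

/-- The group law with parameter `f` on `G` given by a group structure on the base change. -/
noncomputable def rawOf : Raw G (Over.mk f) where
  m := (ptEquiv ε (snd _ _)).symm
    (ptEquiv ε (snd (G ⊗ G) _) (fst _ _ ≫ fst _ _) * ptEquiv ε (snd (G ⊗ G) _) (fst _ _ ≫ snd _ _))
  i := (ptEquiv ε (snd _ _)).symm (ptEquiv ε (snd G _) (fst _ _))⁻¹
  e := (ptEquiv ε (snd _ _)).symm 1

lemma rawOf_mul {Y : Over S} (t : Y ⟶ Over.mk f) (a b : Y ⟶ G) :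
    (rawOf ε).mul t a b = (ptEquiv ε t).symm (ptEquiv ε t a * ptEquiv ε t b) := by
  have e1 := ptEquiv_comp ε (lift (lift a b) t) (snd (G ⊗ G) (Over.mk f)) (fst _ _ ≫ fst _ _)
  have e2 := ptEquiv_comp ε (lift (lift a b) t) (snd (G ⊗ G) (Over.mk f)) (fst _ _ ≫ snd _ _)
  rw [Raw.mul, rawOf, ptEquiv_symm_comp, MonObj.comp_mul, ← e1, ← e2]
  simp only [lift_fst_assoc, lift_fst]
  have e0 := lift_snd (lift a b) t
  clear e1 e2
  generalize lift (lift a b) t ≫ snd (G ⊗ G) (Over.mk f) = t' at e0 ⊢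
  subst e0
  rw [lift_snd]

lemma rawOf_inv {Y : Over S} (t : Y ⟶ Over.mk f) (a : Y ⟶ G) :
    (rawOf ε).inv t a = (ptEquiv ε t).symm (ptEquiv ε t a)⁻¹ := by
  have e1 := ptEquiv_comp ε (lift a t) (snd G (Over.mk f)) (fst _ _)
  rw [Raw.inv, rawOf, ptEquiv_symm_comp, GrpObj.comp_inv, ← e1]
  simp only [lift_fst]
  have e0 := lift_snd a t
  clear e1
  generalize lift a t ≫ snd G (Over.mk f) = t' at e0 ⊢
  subst e0
  rfl

lemma rawOf_one {Y : Over S} (t : Y ⟶ Over.mk f) :
    (rawOf ε).one t = (ptEquiv ε t).symm 1 := by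
  rw [Raw.one, rawOf, ptEquiv_symm_comp, MonObj.comp_one]
  have e0 := lift_snd (toUnit Y) t
  generalize lift (toUnit Y) t ≫ snd (𝟙_ (Over S)) (Over.mk f) = t' at e0 ⊢
  subst e0
  rfl

lemma rawOf_isGrp : (rawOf ε).IsGrp where
  assoc t a b c := by
    simp only [rawOf_mul, Equiv.apply_symm_apply, _root_.mul_assoc]
  one_mul t a := by
    simp only [rawOf_mul, rawOf_one, Equiv.apply_symm_apply, _root_.one_mul, Equiv.symm_apply_apply]
  inv_mul t a := by
    simp only [rawOf_mul, rawOf_one, rawOf_inv, Equiv.apply_symm_apply, inv_mul_cancel]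

omit [GrpObj X] in
lemma ptEquiv_tPt {Z : Over S'} (a : (Over.map f).obj Z ⟶ G) :
    ptEquiv ε (tPt f Z) a = bcEquiv f Z G a ≫ ε.hom := by
  change bcEquiv f Z G (𝟙 _ ≫ a) ≫ ε.hom = _
  rw [Category.id_comp]

lemma bcEquiv_rawOf_mul {Z : Over S'} (a b : (Over.map f).obj Z ⟶ G) :
    bcEquiv f Z G ((rawOf ε).mul (tPt f Z) a b) ≫ ε.hom =
      (bcEquiv f Z G a ≫ ε.hom) * (bcEquiv f Z G b ≫ ε.hom) := by
  rw [← ptEquiv_tPt, rawOf_mul, Equiv.apply_symm_apply, ptEquiv_tPt, ptEquiv_tPt]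
  rfl

/-- The parametrised morphism given by a morphism of base changes. -/
noncomputable def famOf (u : X ⟶ X') : G ⊗ Over.mk f ⟶ H :=
  (ptEquiv ε' (snd _ _)).symm (ptEquiv ε (snd _ _) (fst _ _) ≫ u)

omit [GrpObj X] [GrpObj X'] in
lemma ap_famOf (u : X ⟶ X') {Y : Over S} (t : Y ⟶ Over.mk f) (a : Y ⟶ G) :
    ap (famOf ε ε' u) t a = (ptEquiv ε' t).symm (ptEquiv ε t a ≫ u) := by
  have e1 := ptEquiv_comp ε (lift a t) (snd G (Over.mk f)) (fst _ _)
  rw [ap, famOf, ptEquiv_symm_comp, ← Category.assoc, ← e1]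
  simp only [lift_fst]
  have e0 := lift_snd a t
  clear e1
  generalize lift a t ≫ snd G (Over.mk f) = t' at e0 ⊢
  subst e0
  rfl

lemma isHom_famOf (u : X ⟶ X') [IsMonHom u] : IsHom (rawOf ε) (rawOf ε') (famOf ε ε' u) := by
  intro Y t a b
  simp only [ap_famOf, rawOf_mul, Equiv.apply_symm_apply, MonObj.mul_comp]

omit [GrpObj X] [GrpObj X'] in
lemma bcEquiv_ap_famOf (u : X ⟶ X') {Z : Over S'} (a : (Over.map f).obj Z ⟶ G) :
    bcEquiv f Z H (ap (famOf ε ε' u) (tPt f Z) a) ≫ ε'.hom = bcEquiv f Z G a ≫ ε.hom ≫ u := by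
  rw [← ptEquiv_tPt, ap_famOf, Equiv.apply_symm_apply, ptEquiv_tPt]
  exact Category.assoc _ _ _

end ToRaw

section HomOf

/-- The morphism of base changes given by a parametrised morphism. -/
noncomputable def homOf (u : G ⊗ Over.mk f ⟶ H) : Red.bc f G ⟶ Red.bc f H :=
  bcEquiv f (Red.bc f G) H (ap u (tPt f _) ((bcEquiv f _ G).symm (𝟙 _)))

lemma symm_comp_homOf (u : G ⊗ Over.mk f ⟶ H) {Z : Over S'} (x : Z ⟶ Red.bc f G) :
    (bcEquiv f Z H).symm (x ≫ homOf u) = ap u (tPt f Z) ((bcEquiv f Z G).symm x) := by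
  rw [comp_bcEquiv_symm, homOf, Equiv.symm_apply_apply, comp_ap, map_tPt, ← comp_bcEquiv_symm,
    Category.comp_id]

lemma isMonHom_homOf {r : Raw G (Over.mk f)} (hr : r.IsGrp) {r' : Raw H (Over.mk f)}
    (hr' : r'.IsGrp) {u : G ⊗ Over.mk f ⟶ H} (hu : IsHom r r' u) :
    letI := grpObj hr
    letI := grpObj hr'
    IsMonHom (homOf u) := by
  let := grpObj hr
  let := grpObj hr'
  refine Sga3B.Pts.isMonHom_of_points _ fun Z x y => ?_
  apply (bcEquiv f Z H).symm.injective
  rw [symm_comp_homOf, symm_mul hr, symm_mul hr', symm_comp_homOf, symm_comp_homOf]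
  exact hu _ _ _

end HomOf

section Comp

variable {S'' : Scheme.{u}} (g : S'' ⟶ S') (f' : S'' ⟶ S) (hgf : g ≫ f = f')

include hgf in
lemma isPullback_comp (G : Over S) :
    IsPullback (Limits.pullback.fst (Red.bc f G).hom g ≫ Limits.pullback.fst G.hom f)
      (Limits.pullback.snd (Red.bc f G).hom g) G.hom f' := by
  subst hgf
  exact (IsPullback.of_hasPullback (Red.bc f G).hom g).flip.paste_vert
    (IsPullback.of_hasPullback G.hom f).flip |>.flip

/-- Transitivity of base change. -/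
noncomputable def theta (G : Over S) : Red.bc g (Red.bc f G) ≅ Red.bc f' G :=
  Over.isoMk (isPullback_comp g f' hgf G).isoPullback
    ((isPullback_comp g f' hgf G).isoPullback_hom_snd)

lemma theta_fst (G : Over S) :
    (theta g f' hgf G).hom.left ≫ Limits.pullback.fst G.hom f' =
      Limits.pullback.fst (Red.bc f G).hom g ≫ Limits.pullback.fst G.hom f :=
  (isPullback_comp g f' hgf G).isoPullback_hom_fst

/-- Transitivity of the forgetful functors. -/
noncomputable def kap (Z : Over S'') :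
    (Over.map f').obj Z ⟶ (Over.map f).obj ((Over.map g).obj Z) :=
  Over.homMk (𝟙 Z.left) (by simp [← hgf])

lemma symm_comp_theta {Z : Over S''} (x : Z ⟶ Red.bc g (Red.bc f G)) :
    (bcEquiv f' Z G).symm (x ≫ (theta g f' hgf G).hom) =
      kap g f' hgf Z ≫ (bcEquiv f _ G).symm ((bcEquiv g Z (Red.bc f G)).symm x) := by
  ext1
  rw [bcEquiv_symm_left, Over.comp_left, Over.comp_left, bcEquiv_symm_left, bcEquiv_symm_left,
    Category.assoc, theta_fst]
  simp [kap]

lemma kap_tPt (Z : Over S'') (s : Over.mk f' ⟶ Over.mk f) (hs : s.left = g) :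
    kap g f' hgf Z ≫ tPt f ((Over.map g).obj Z) = tPt f' Z ≫ s := by
  ext1
  simp [kap, hs]

/-- The comparison of a base change of the group attached to a parametrised group law. -/
theorem isMonHom_theta {r : Raw G (Over.mk f)} (hr : r.IsGrp) {X : Over S''}
    (ε : Red.bc f' G ≅ X) [GrpObj X] (s : Over.mk f' ⟶ Over.mk f) (hs : s.left = g)
    (h : r.res s = rawOf ε) :
    letI := grpObj hr
    IsMonHom ((theta g f' hgf G).hom ≫ ε.hom) := by
  let := grpObj hr
  refine Sga3B.Pts.isMonHom_of_points _ fun Z x y => ?_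
  have key : (bcEquiv f' Z G).symm ((x * y) ≫ (theta g f' hgf G).hom) =
      (rawOf ε).mul (tPt f' Z) ((bcEquiv f' Z G).symm (x ≫ (theta g f' hgf G).hom))
        ((bcEquiv f' Z G).symm (y ≫ (theta g f' hgf G).hom)) := by
    rw [symm_comp_theta, symm_comp_theta, symm_comp_theta, ← h, Raw.res_mul,
      ← kap_tPt g f' hgf Z s hs, ← Raw.comp_mul]
    congr 1
    rw [← symm_mul hr]
    congr 1
    exact (bcMulEquiv g Z (Red.bc f G)).symm.map_mul x y
  have key2 := congr(bcEquiv f' Z G $key ≫ ε.hom)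
  rw [bcEquiv_rawOf_mul] at key2
  simpa using key2

/-- Compatibility of homomorphisms. -/
theorem map_homOf_comp {X X' : Over S''} (ε : Red.bc f' G ≅ X) (ε' : Red.bc f' H ≅ X')
    (s : Over.mk f' ⟶ Over.mk f) (hs : s.left = g) (u : X ⟶ X') (u' : G ⊗ Over.mk f ⟶ H)
    (h : G ◁ s ≫ u' = famOf ε ε' u) :
    (Over.pullback g).map (homOf u') ≫ (theta g f' hgf H).hom ≫ ε'.hom =
      ((theta g f' hgf G).hom ≫ ε.hom) ≫ u := by
  have key : (bcEquiv f' _ H).symm ((Over.pullback g).map (homOf u') ≫ (theta g f' hgf H).hom) =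
      ap (famOf ε ε' u) (tPt f' _) ((bcEquiv f' _ G).symm (theta g f' hgf G).hom) := by
    have e1 := symm_comp_theta (G := G) g f' hgf (𝟙 _)
    rw [Category.id_comp] at e1
    rw [symm_comp_theta, e1, ← h, res_ap, ← kap_tPt g f' hgf _ s hs, ← comp_ap,
      ← symm_comp_homOf, ← bcEquiv_symm_comp, Category.id_comp]
  have key2 := congr(bcEquiv f' _ H $key ≫ ε'.hom)
  rw [bcEquiv_ap_famOf] at key2
  simpa using key2

end Comp

end Groth.Agent.Sga3.H515.BcRaw
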