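import Groth.Agent.Sga3.H515.ParGrp
import Groth.Agent.CalgA.LimFP
import Mathlib.CategoryTheory.Monoidal.Cartesian.Over

/-!
# Morphisms with parameters over a cofiltered limit of schemes

For a cofiltered diagram `D` of schemes with affine transition maps and limit `c`, and
quasi-compact quasi-separated `P` over `D i`, morphisms `P ⊗ c.pt ⟶ G` to `G` locally of finite
presentation come from `P ⊗ D j ⟶ G`.
-/

set_option autoImplicit false
set_option backward.isDefEq.respectTransparency false
universe u
open CategoryTheory MonoidalCategory CartesianMonoidalCategory AlgebraicGeometry Limits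

namespace Groth.Agent.Sga3.H515.StageExt

open ParGrp CalgA.LimFP

variable {I : Type u} [SmallCategory I] (D : I ⥤ Scheme.{u}) (i : I)

/-- The diagram `D` over `D i`. -/
@[simps obj] noncomputable def stF : Over i ⥤ Over (D.obj i) where
  obj j := Over.mk (D.map j.hom)
  map a := Over.homMk (D.map a.left) (by simp [← D.map_comp])
  map_id j := by ext1; simp
  map_comp a b := by ext1; simp

@[simp] lemma stF_map_left {j k : Over i} (a : j ⟶ k) : ((stF D i).map a).left = D.map a.left := rfl

variable {D} (c : Cone D)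

/-- The limit over `D i`. -/
@[simps pt] noncomputable def stC : Cone (stF D i) where
  pt := Over.mk (c.π.app i)
  π :=
    { app j := Over.homMk (c.π.app j.left) (c.w j.hom)
      naturality j k a := by
        ext1
        simp }

@[simp] lemma stC_π_left (j : Over i) : ((stC i c).π.app j).left = c.π.app j.left := rfl

/-- Quasi-compact quasi-separated objects. -/
def qcqs (S : Scheme.{u}) : ObjectProperty (Over S) := fun P =>
  QuasiCompact P.hom ∧ QuasiSeparated P.hom

lemma qcqs_unit (S : Scheme.{u}) : qcqs S (𝟙_ (Over S)) := by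
  constructor
  · dsimp; infer_instance
  · dsimp; infer_instance

lemma qcqs_tensor {S : Scheme.{u}} {P P' : Over S} (h : qcqs S P) (h' : qcqs S P') :
    qcqs S (P ⊗ P') := by
  obtain ⟨_, _⟩ := h
  obtain ⟨_, _⟩ := h'
  constructor
  · dsimp; infer_instance
  · dsimp; infer_instance

variable [IsCofiltered I] [∀ (i j : I) (f : i ⟶ j), IsAffineHom (D.map f)]
    [∀ i, CompactSpace (D.obj i)] [∀ i, QuasiSeparatedSpace (D.obj i)]

/-- Existence. -/
theorem hasExt (hc : IsLimit c) (G : Over (D.obj i)) [LocallyOfFinitePresentation G.hom] :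
    HasExt (stC i c) (qcqs (D.obj i)) G := by
  rintro P ⟨hP1, hP2⟩ f
  have h1 : ∀ {j k : Over i} (a : j ⟶ k), IsAffineHom ((bcDiagram D P.hom).map a) :=
    fun a => isAffineHom_bcDiagram_map a
  have h2 : ∀ j : Over i, CompactSpace ((bcDiagram D P.hom).obj j) :=
    fun j => compactSpace_bcDiagram_obj j
  have h3 : ∀ j : Over i, QuasiSeparatedSpace ((bcDiagram D P.hom).obj j) :=
    fun j => quasiSeparatedSpace_bcDiagram_obj j
  let t : bcDiagram D P.hom ⟶ (Functor.const (Over i)).obj (D.obj i) :=
    { app := fun j => pullback.fst _ _ ≫ P.hom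
      naturality := fun j k a => by simp }
  have h : IsPullback (pullback.fst P.hom (c.π.app i)) (pullback.snd P.hom (c.π.app i)) P.hom
    (c.π.app i) := .of_hasPullback _ _
  have hf : f.left ≫ G.hom = pullback.fst P.hom (c.π.app i) ≫ P.hom := Over.w f
  obtain ⟨j, g, hg1, hg2⟩ := Scheme.exists_π_app_comp_eq_of_locallyOfFinitePresentation
    (bcDiagram D P.hom) t G.hom (bcCone h) (isLimitBcCone hc h) f.left (by
      ext j
      simp only [NatTrans.comp_app, bcCone_π_app, Functor.const_obj_obj, Functor.const_map_app, t]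
      rw [pullback.lift_fst_assoc]
      exact hf.symm)
  refine ⟨j, Over.homMk g hg2, ?_⟩
  ext1
  rw [Over.comp_left]
  refine Eq.trans ?_ hg1
  change _ ≫ g = _ ≫ g
  congr 1

omit [∀ i, QuasiSeparatedSpace (D.obj i)] in
/-- Uniqueness. -/
theorem hasUniq (hc : IsLimit c) (G : Over (D.obj i)) [LocallyOfFiniteType G.hom] :
    HasUniq (stC i c) (qcqs (D.obj i)) G := by
  rintro P ⟨hP1, hP2⟩ j₀ g g' hgg
  have h1 : ∀ {j k : Over i} (a : j ⟶ k), IsAffineHom ((bcDiagram D P.hom).map a) :=
    fun a => isAffineHom_bcDiagram_map a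
  have h2 : ∀ j : Over i, CompactSpace ((bcDiagram D P.hom).obj j) :=
    fun j => compactSpace_bcDiagram_obj j
  let t : bcDiagram D P.hom ⟶ (Functor.const (Over i)).obj (D.obj i) :=
    { app := fun j => pullback.fst _ _ ≫ P.hom
      naturality := fun j k a => by simp }
  have h : IsPullback (pullback.fst P.hom (c.π.app i)) (pullback.snd P.hom (c.π.app i)) P.hom
    (c.π.app i) := .of_hasPullback _ _
  have hw1 : g.left ≫ G.hom = pullback.fst P.hom (D.map j₀.hom) ≫ P.hom := Over.w g
  have hw2 : g'.left ≫ G.hom = pullback.fst P.hom (D.map j₀.hom) ≫ P.hom := Over.w g'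
  have e : (P ◁ (stC i c).π.app j₀).left = (bcCone h).π.app j₀ := by
    apply pullback.hom_ext
    · exact (Over.whiskerLeft_left_fst _).trans (pullback.lift_fst _ _ _).symm
    · exact (Over.whiskerLeft_left_snd _).trans (pullback.lift_snd _ _ _).symm
  have hgg' : (bcCone h).π.app j₀ ≫ g.left = (bcCone h).π.app j₀ ≫ g'.left := by
    rw [← e]
    exact congr($(hgg).left)
  obtain ⟨k, a, hk⟩ := Scheme.exists_hom_comp_eq_comp_of_locallyOfFiniteType
    (bcDiagram D P.hom) t G.hom (bcCone h) (isLimitBcCone hc h) (i := j₀)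
    g.left g'.left hw1.symm hw2.symm hgg'
  refine ⟨k, a, ?_⟩
  ext1
  have e2 : (P ◁ (stF D i).map a).left = (bcDiagram D P.hom).map a := by
    apply pullback.hom_ext
    · exact (Over.whiskerLeft_left_fst _).trans (pullback.lift_fst _ _ _).symm
    · exact (Over.whiskerLeft_left_snd _).trans (pullback.lift_snd _ _ _).symm
  rw [Over.comp_left, Over.comp_left, e2]
  exact hk

end Groth.Agent.Sga3.H515.StageExt
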