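import Groth.Agent.Sga3.H515.BcRaw
import Groth.Agent.Sga3.H515.StageExt
import Groth.Agent.CalgA.LimFP2
import Groth.Agent.Ega43.LimitDescendIso

/-!
# Homomorphisms of finitely presented group schemes over a cofiltered limit: models at a stage

`Stage c u i`: models over `D i` of two groups over the limit, with group laws and a homomorphism
parametrised by a later stage `D j`.
* `exists_stage`: existence.
* `Stage.move`: enlarging the stage `j`.
-/

set_option autoImplicit false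
universe u
open CategoryTheory MonoidalCategory CartesianMonoidalCategory MonObj GrpObj AlgebraicGeometry
  Limits Opposite

namespace Groth.Agent.Sga3.H515.GrpStage

open ParGrp BcRaw StageExt Sga3B.BcPts

variable {I : Type u} [SmallCategory I] {D : I ⥤ Scheme.{u}} (c : Cone D)

/-- The transition map between two base changes. -/
noncomputable abbrev tr {i : I} {k j : Over i} (a : k ⟶ j) :
    Over.mk (D.map k.hom) ⟶ Over.mk (D.map j.hom) := (stF D i).map a

/-- The projection from the limit. -/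
noncomputable abbrev pr {i : I} (j : Over i) :
    Over.mk (c.π.app i) ⟶ Over.mk (D.map j.hom) := (stC i c).π.app j

lemma pr_tr {i : I} {k j : Over i} (a : k ⟶ j) : pr c k ≫ tr a = pr c j := (stC i c).w a

/-- Models of groups and of a homomorphism at a stage. -/
structure Stage {G H : Over c.pt} [GrpObj G] [GrpObj H] (u : G ⟶ H) (i : I) where
  /-- model of `G` -/
  G₀ : Over (D.obj i)
  /-- model of `H` -/
  H₀ : Over (D.obj i)
  lfpG : LocallyOfFinitePresentation G₀.hom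
  qcG : QuasiCompact G₀.hom
  qsG : QuasiSeparated G₀.hom
  lfpH : LocallyOfFinitePresentation H₀.hom
  qcH : QuasiCompact H₀.hom
  qsH : QuasiSeparated H₀.hom
  /-- comparison -/
  εG : Red.bc (c.π.app i) G₀ ≅ G
  /-- comparison -/
  εH : Red.bc (c.π.app i) H₀ ≅ H
  /-- the later stage -/
  j : Over i
  /-- the group law of `G₀` -/
  r : Raw G₀ (Over.mk (D.map j.hom))
  /-- the group law of `H₀` -/
  r' : Raw H₀ (Over.mk (D.map j.hom))
  hr : r.IsGrp
  hr' : r'.IsGrp
  hrG : r.res (pr c j) = rawOf εG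
  hrH : r'.res (pr c j) = rawOf εH
  /-- the homomorphism -/
  v : G₀ ⊗ Over.mk (D.map j.hom) ⟶ H₀
  hv : IsHom r r' v
  hvu : G₀ ◁ pr c j ≫ v = famOf εG εH u

variable {c} {G H : Over c.pt} [GrpObj G] [GrpObj H] {u : G ⟶ H} {i : I}

/-- Enlarge the stage. -/
@[simps] noncomputable def Stage.move (s : Stage c u i) {k : Over i} (a : k ⟶ s.j) :
    Stage c u i where
  G₀ := s.G₀
  H₀ := s.H₀
  lfpG := s.lfpG
  qcG := s.qcG
  qsG := s.qsG
  lfpH := s.lfpH
  qcH := s.qcH
  qsH := s.qsH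
  εG := s.εG
  εH := s.εH
  j := k
  r := s.r.res (tr a)
  r' := s.r'.res (tr a)
  hr := s.hr.res _
  hr' := s.hr'.res _
  hrG := by rw [Raw.res_res, pr_tr, s.hrG]
  hrH := by rw [Raw.res_res, pr_tr, s.hrH]
  v := s.G₀ ◁ tr a ≫ s.v
  hv := IsHom.res s.hv _
  hvu := by rw [← Category.assoc, ← MonoidalCategory.whiskerLeft_comp, pr_tr, s.hvu]

/-- The comparison isomorphism of a model. -/
noncomputable def mdlIso {X : Over c.pt} (M : CalgA.LimFP.Mdl X.hom i) :
    Red.bc (c.π.app i) (Over.mk M.f) ≅ X :=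
  Over.isoMk M.h.isoPullback.symm (by simp)

variable [IsCofiltered I] [∀ (i j : I) (f : i ⟶ j), IsAffineHom (D.map f)]
    [∀ i, CompactSpace (D.obj i)] [∀ i, QuasiSeparatedSpace (D.obj i)]

variable (u) in
/-- Existence of models. -/
theorem exists_stage (hc : IsLimit c) [IsMonHom u]
    [LocallyOfFinitePresentation G.hom] [QuasiCompact G.hom] [QuasiSeparated G.hom]
    [LocallyOfFinitePresentation H.hom] [QuasiCompact H.hom] [QuasiSeparated H.hom] :
    ∃ i, Nonempty (Stage c u i) := by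
  obtain ⟨i1, ⟨M1⟩⟩ := CalgA.LimFP.Mdl.exists_model hc G.hom
  obtain ⟨i2, ⟨M2⟩⟩ := CalgA.LimFP.Mdl.exists_model hc H.hom
  obtain ⟨i, a1, a2, -⟩ := IsCofilteredOrEmpty.cone_objs i1 i2
  let M := M1.bc a1
  let N := M2.bc a2
  let G₀ : Over (D.obj i) := Over.mk M.f
  let H₀ : Over (D.obj i) := Over.mk N.f
  have lfpG : LocallyOfFinitePresentation G₀.hom := M.lfp
  have qcG : QuasiCompact G₀.hom := M.qc
  have qsG : QuasiSeparated G₀.hom := M.qs
  have lfpH : LocallyOfFinitePresentation H₀.hom := N.lfp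
  have qcH : QuasiCompact H₀.hom := N.qc
  have qsH : QuasiSeparated H₀.hom := N.qs
  let εG : Red.bc (c.π.app i) G₀ ≅ G := mdlIso M
  let εH : Red.bc (c.π.app i) H₀ ≅ H := mdlIso N
  have hG : qcqs (D.obj i) G₀ := ⟨qcG, qsG⟩
  have hH : qcqs (D.obj i) H₀ := ⟨qcH, qsH⟩
  have hGG := qcqs_tensor hG hG
  have hHH := qcqs_tensor hH hH
  have hEG := hasExt i c hc G₀
  have hUG := hasUniq i c hc G₀
  have hEH := hasExt i c hc H₀
  have hUH := hasUniq i c hc H₀
  obtain ⟨j1, r1, hr1, hr1'⟩ := exists_isGrp hEG hUG (qcqs_unit _) hG hGG (qcqs_tensor hGG hG)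
    (rawOf_isGrp εG)
  obtain ⟨j2, r2, hr2, hr2'⟩ := exists_isGrp hEH hUH (qcqs_unit _) hH hHH (qcqs_tensor hHH hH)
    (rawOf_isGrp εH)
  change Raw G₀ (Over.mk (D.map j1.hom)) at r1
  change Raw H₀ (Over.mk (D.map j2.hom)) at r2
  obtain ⟨j0, b1, b2, -⟩ := IsCofilteredOrEmpty.cone_objs j1 j2
  have e1 : (r1.res (tr b1)).res (pr c j0) = rawOf εG := by
    rw [Raw.res_res, pr_tr]
    exact hr1
  have e2 : (r2.res (tr b2)).res (pr c j0) = rawOf εH := by
    rw [Raw.res_res, pr_tr]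
    exact hr2
  obtain ⟨j, b, v, hv1, hv2⟩ := exists_isHom hEH hUH hG hGG (r1.res (tr b1)) (r2.res (tr b2))
    (famOf εG εH u) (by
      change IsHom ((r1.res (tr b1)).res (pr c j0)) ((r2.res (tr b2)).res (pr c j0)) _
      rw [e1, e2]
      exact isHom_famOf εG εH u)
  change G₀ ⊗ Over.mk (D.map j.hom) ⟶ H₀ at v
  refine ⟨i, ⟨⟨G₀, H₀, lfpG, qcG, qsG, lfpH, qcH, qsH, εG, εH, j, (r1.res (tr b1)).res (tr b),
    (r2.res (tr b2)).res (tr b), (hr1'.res _).res _, (hr2'.res _).res _, ?_, ?_, v, hv2, hv1⟩⟩⟩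
  · rw [Raw.res_res, pr_tr, e1]
  · rw [Raw.res_res, pr_tr, e2]

end Groth.Agent.Sga3.H515.GrpStage
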