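import Mathlib.CategoryTheory.Monoidal.Cartesian.Basic
import Mathlib.CategoryTheory.Filtered.Basic
import Mathlib.CategoryTheory.Limits.Cones
import Mathlib.Algebra.Group.Defs
import Mathlib.Algebra.Group.MinimalAxioms

/-!
# Group laws with parameters in a cartesian monoidal category

`Raw G T` : an operation `(G ⊗ G) ⊗ T ⟶ G`, an inverse `G ⊗ T ⟶ G` and a unit `𝟙 ⊗ T ⟶ G`
parametrised by `T`. `Raw.IsGrp` : the group laws, for points. If `T` is a cofiltered limit of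
`T_j` and morphisms `P ⊗ T ⟶ G` (for `P` in a class of objects) come from `P ⊗ T_j ⟶ G`, uniquely
up to enlarging `j`, then group laws and homomorphisms descend to a stage.
-/

set_option autoImplicit false
universe v u w
open CategoryTheory MonoidalCategory CartesianMonoidalCategory Limits

namespace Groth.Agent.Sga3.H515.ParGrp

variable {C : Type u} [Category.{v} C] [CartesianMonoidalCategory C]

/-- The operations of a group law on `G` parametrised by `T`. -/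
structure Raw (G T : C) where
  /-- multiplication -/
  m : (G ⊗ G) ⊗ T ⟶ G
  /-- inverse -/
  i : G ⊗ T ⟶ G
  /-- unit -/
  e : 𝟙_ C ⊗ T ⟶ G

variable {G H T T' T'' Y Y' : C}

namespace Raw

/-- Multiplication of points. -/
def mul (r : Raw G T) (t : Y ⟶ T) (a b : Y ⟶ G) : Y ⟶ G := lift (lift a b) t ≫ r.m

/-- Inverse of points. -/
def inv (r : Raw G T) (t : Y ⟶ T) (a : Y ⟶ G) : Y ⟶ G := lift a t ≫ r.i

/-- Unit point. -/
def one (r : Raw G T) (t : Y ⟶ T) : Y ⟶ G := lift (toUnit Y) t ≫ r.e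

@[reassoc]
lemma comp_mul (r : Raw G T) (f : Y' ⟶ Y) (t : Y ⟶ T) (a b : Y ⟶ G) :
    f ≫ r.mul t a b = r.mul (f ≫ t) (f ≫ a) (f ≫ b) := by
  simp [mul, comp_lift_assoc]

@[reassoc]
lemma comp_inv (r : Raw G T) (f : Y' ⟶ Y) (t : Y ⟶ T) (a : Y ⟶ G) :
    f ≫ r.inv t a = r.inv (f ≫ t) (f ≫ a) := by
  simp [inv, comp_lift_assoc]

@[reassoc]
lemma comp_one (r : Raw G T) (f : Y' ⟶ Y) (t : Y ⟶ T) :
    f ≫ r.one t = r.one (f ≫ t) := by
  simp [one, comp_lift_assoc]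

/-- Restriction of the parameter. -/
@[simps]
def res (r : Raw G T) (s : T' ⟶ T) : Raw G T' where
  m := (G ⊗ G) ◁ s ≫ r.m
  i := G ◁ s ≫ r.i
  e := 𝟙_ C ◁ s ≫ r.e

@[simp]
lemma res_mul (r : Raw G T) (s : T' ⟶ T) (t : Y ⟶ T') (a b : Y ⟶ G) :
    (r.res s).mul t a b = r.mul (t ≫ s) a b := by
  simp only [mul, res_m, ← Category.assoc]
  congr 1
  ext <;> simp

@[simp]
lemma res_inv (r : Raw G T) (s : T' ⟶ T) (t : Y ⟶ T') (a : Y ⟶ G) :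
    (r.res s).inv t a = r.inv (t ≫ s) a := by
  simp only [inv, res_i, ← Category.assoc]
  congr 1
  ext <;> simp

@[simp]
lemma res_one (r : Raw G T) (s : T' ⟶ T) (t : Y ⟶ T') :
    (r.res s).one t = r.one (t ≫ s) := by
  simp only [one, res_e, ← Category.assoc]
  congr 1
  ext
  simp

lemma res_res (r : Raw G T) (s : T' ⟶ T) (s' : T'' ⟶ T') : (r.res s).res s' = r.res (s' ≫ s) := by
  simp [res]

/-- The group laws. -/
structure IsGrp (r : Raw G T) : Prop where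
  assoc : ∀ {Y : C} (t : Y ⟶ T) (a b c : Y ⟶ G), r.mul t (r.mul t a b) c = r.mul t a (r.mul t b c)
  one_mul : ∀ {Y : C} (t : Y ⟶ T) (a : Y ⟶ G), r.mul t (r.one t) a = a
  inv_mul : ∀ {Y : C} (t : Y ⟶ T) (a : Y ⟶ G), r.mul t (r.inv t a) a = r.one t

lemma IsGrp.res {r : Raw G T} (h : r.IsGrp) (s : T' ⟶ T) : (r.res s).IsGrp where
  assoc t a b c := by simpa using h.assoc (t ≫ s) a b c
  one_mul t a := by simpa using h.one_mul (t ≫ s) a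
  inv_mul t a := by simpa using h.inv_mul (t ≫ s) a

/-- The group of points. -/
@[reducible]
def IsGrp.group {r : Raw G T} (h : r.IsGrp) (t : Y ⟶ T) : Group (Y ⟶ G) :=
  letI : Mul (Y ⟶ G) := ⟨r.mul t⟩
  letI : Inv (Y ⟶ G) := ⟨r.inv t⟩
  letI : One (Y ⟶ G) := ⟨r.one t⟩
  Group.ofLeftAxioms (h.assoc t) (h.one_mul t) (h.inv_mul t)

/-- Associativity at the universal point implies associativity. -/
lemma assoc_of_univ (r : Raw G T)
    (h : r.mul (snd ((G ⊗ G) ⊗ G) T)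
        (r.mul (snd _ _) (fst _ _ ≫ fst _ _ ≫ fst _ _) (fst _ _ ≫ fst _ _ ≫ snd _ _))
        (fst _ _ ≫ snd _ _) =
      r.mul (snd ((G ⊗ G) ⊗ G) T) (fst _ _ ≫ fst _ _ ≫ fst _ _)
        (r.mul (snd _ _) (fst _ _ ≫ fst _ _ ≫ snd _ _) (fst _ _ ≫ snd _ _)))
    {Y : C} (t : Y ⟶ T) (a b c : Y ⟶ G) :
    r.mul t (r.mul t a b) c = r.mul t a (r.mul t b c) := by
  have := congr(lift (lift (lift a b) c) t ≫ $h)
  simpa [comp_mul] using this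

lemma one_mul_of_univ (r : Raw G T)
    (h : r.mul (snd G T) (r.one (snd _ _)) (fst _ _) = fst _ _)
    {Y : C} (t : Y ⟶ T) (a : Y ⟶ G) :
    r.mul t (r.one t) a = a := by
  have := congr(lift a t ≫ $h)
  simpa [comp_mul, comp_one] using this

lemma inv_mul_of_univ (r : Raw G T)
    (h : r.mul (snd G T) (r.inv (snd _ _) (fst _ _)) (fst _ _) = r.one (snd _ _))
    {Y : C} (t : Y ⟶ T) (a : Y ⟶ G) :
    r.mul t (r.inv t a) a = r.one t := by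
  have := congr(lift a t ≫ $h)
  simpa [comp_mul, comp_one, comp_inv] using this

end Raw

/-- Evaluation of a parametrised morphism. -/
def ap (u : G ⊗ T ⟶ H) (t : Y ⟶ T) (a : Y ⟶ G) : Y ⟶ H := lift a t ≫ u

@[reassoc]
lemma comp_ap (u : G ⊗ T ⟶ H) (f : Y' ⟶ Y) (t : Y ⟶ T) (a : Y ⟶ G) :
    f ≫ ap u t a = ap u (f ≫ t) (f ≫ a) := by
  simp [ap, comp_lift_assoc]

@[simp]
lemma res_ap (u : G ⊗ T ⟶ H) (s : T' ⟶ T) (t : Y ⟶ T') (a : Y ⟶ G) :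
    ap (G ◁ s ≫ u) t a = ap u (t ≫ s) a := by
  simp only [ap, ← Category.assoc]
  congr 1
  ext <;> simp

/-- A parametrised morphism is a homomorphism. -/
def IsHom (r : Raw G T) (r' : Raw H T) (u : G ⊗ T ⟶ H) : Prop :=
  ∀ {Y : C} (t : Y ⟶ T) (a b : Y ⟶ G), ap u t (r.mul t a b) = r'.mul t (ap u t a) (ap u t b)

lemma IsHom.res {r : Raw G T} {r' : Raw H T} {u : G ⊗ T ⟶ H} (h : IsHom r r' u) (s : T' ⟶ T) :
    IsHom (r.res s) (r'.res s) (G ◁ s ≫ u) := by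
  intro Y t a b
  simpa using h (t ≫ s) a b

lemma isHom_of_univ {r : Raw G T} {r' : Raw H T} {u : G ⊗ T ⟶ H}
    (h : ap u (snd (G ⊗ G) T) (r.mul (snd _ _) (fst _ _ ≫ fst _ _) (fst _ _ ≫ snd _ _)) =
      r'.mul (snd _ _) (ap u (snd _ _) (fst _ _ ≫ fst _ _)) (ap u (snd _ _) (fst _ _ ≫ snd _ _))) :
    IsHom r r' u := by
  intro Y t a b
  have := congr(lift (lift a b) t ≫ $h)
  simpa [Raw.comp_mul, comp_ap] using this

section Descent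

variable {J : Type w} [Category.{w} J] [IsCofiltered J] {F : J ⥤ C} (c : Cone F)
  (Q : ObjectProperty C)

/-- Morphisms `P ⊗ c.pt ⟶ G` come from a stage. -/
def HasExt (G : C) : Prop :=
  ∀ P, Q P → ∀ f : P ⊗ c.pt ⟶ G, ∃ (j : J) (g : P ⊗ F.obj j ⟶ G), P ◁ c.π.app j ≫ g = f

/-- Morphisms `P ⊗ F j ⟶ G` which are equal over the limit are equal at a later stage. -/
def HasUniq (G : C) : Prop :=
  ∀ P, Q P → ∀ (j : J) (g g' : P ⊗ F.obj j ⟶ G), P ◁ c.π.app j ≫ g = P ◁ c.π.app j ≫ g' →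
    ∃ (k : J) (a : k ⟶ j), P ◁ F.map a ≫ g = P ◁ F.map a ≫ g'

variable {c Q}

/-- Existence of the operations at a stage. -/
lemma exists_raw (hE : HasExt c Q G) (h1 : Q (𝟙_ C)) (hG : Q G) (hGG : Q (G ⊗ G))
    (r : Raw G c.pt) : ∃ (j : J) (r' : Raw G (F.obj j)), r'.res (c.π.app j) = r := by
  obtain ⟨j1, m, hm⟩ := hE _ hGG r.m
  obtain ⟨j2, i, hi⟩ := hE _ hG r.i
  obtain ⟨j3, e, he⟩ := hE _ h1 r.e
  obtain ⟨j4, a1, a2, -⟩ := IsCofilteredOrEmpty.cone_objs j1 j2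
  obtain ⟨j, b1, b3, -⟩ := IsCofilteredOrEmpty.cone_objs j4 j3
  refine ⟨j, ⟨(G ⊗ G) ◁ F.map (b1 ≫ a1) ≫ m, G ◁ F.map (b1 ≫ a2) ≫ i, 𝟙_ C ◁ F.map b3 ≫ e⟩, ?_⟩
  have e1 : (G ⊗ G) ◁ c.π.app j ≫ (G ⊗ G) ◁ F.map (b1 ≫ a1) ≫ m = r.m := by
    rw [← Category.assoc, ← MonoidalCategory.whiskerLeft_comp, c.w, hm]
  have e2 : G ◁ c.π.app j ≫ G ◁ F.map (b1 ≫ a2) ≫ i = r.i := by
    rw [← Category.assoc, ← MonoidalCategory.whiskerLeft_comp, c.w, hi]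
  have e3 : 𝟙_ C ◁ c.π.app j ≫ 𝟙_ C ◁ F.map b3 ≫ e = r.e := by
    rw [← Category.assoc, ← MonoidalCategory.whiskerLeft_comp, c.w, he]
  simp only [Raw.res, e1, e2, e3]
  rfl

omit [IsCofiltered J] in
lemma exists_eq (hU : HasUniq c Q G) {P : C} (hP : Q P) {j : J} (g g' : P ⊗ F.obj j ⟶ G)
    (h : P ◁ c.π.app j ≫ g = P ◁ c.π.app j ≫ g') :
    ∃ (k : J) (a : k ⟶ j), P ◁ F.map a ≫ g = P ◁ F.map a ≫ g' := hU P hP j g g' h

/-- Group laws descend. -/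
theorem exists_isGrp (hE : HasExt c Q G) (hU : HasUniq c Q G) (h1 : Q (𝟙_ C)) (hG : Q G)
    (hGG : Q (G ⊗ G)) (hGGG : Q ((G ⊗ G) ⊗ G)) {r : Raw G c.pt} (hr : r.IsGrp) :
    ∃ (j : J) (r' : Raw G (F.obj j)), r'.res (c.π.app j) = r ∧ r'.IsGrp := by
  obtain ⟨j, r', rfl⟩ := exists_raw hE h1 hG hGG r
  -- associativity
  obtain ⟨k1, a1, h1⟩ := exists_eq hU hGGG (r'.mul (snd ((G ⊗ G) ⊗ G) (F.obj j))
        (r'.mul (snd _ _) (fst _ _ ≫ fst _ _ ≫ fst _ _) (fst _ _ ≫ fst _ _ ≫ snd _ _))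
        (fst _ _ ≫ snd _ _))
      (r'.mul (snd ((G ⊗ G) ⊗ G) (F.obj j)) (fst _ _ ≫ fst _ _ ≫ fst _ _)
        (r'.mul (snd _ _) (fst _ _ ≫ fst _ _ ≫ snd _ _) (fst _ _ ≫ snd _ _))) (by
      simpa [Raw.comp_mul] using hr.assoc (snd ((G ⊗ G) ⊗ G) c.pt)
        (fst _ _ ≫ fst _ _ ≫ fst _ _) (fst _ _ ≫ fst _ _ ≫ snd _ _) (fst _ _ ≫ snd _ _))
  obtain ⟨k2, a2, h2⟩ := exists_eq hU hG (r'.mul (snd G (F.obj j)) (r'.one (snd _ _)) (fst _ _))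
      (fst _ _) (by
      simpa [Raw.comp_mul, Raw.comp_one] using hr.one_mul (snd G c.pt) (fst _ _))
  obtain ⟨k3, a3, h3⟩ := exists_eq hU hG
      (r'.mul (snd G (F.obj j)) (r'.inv (snd _ _) (fst _ _)) (fst _ _)) (r'.one (snd _ _)) (by
      simpa [Raw.comp_mul, Raw.comp_one, Raw.comp_inv] using hr.inv_mul (snd G c.pt) (fst _ _))
  obtain ⟨k4, b1, b2, hb⟩ := IsCofiltered.cospan a1 a2
  obtain ⟨k, c1, c3, hc⟩ := IsCofiltered.cospan (b1 ≫ a1) a3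
  let φ : k ⟶ j := c1 ≫ b1 ≫ a1
  have hφ2 : φ = c1 ≫ b2 ≫ a2 := by rw [← hb]
  have hφ3 : φ = c3 ≫ a3 := by rw [← hc]
  have h1' := congr(((G ⊗ G) ⊗ G) ◁ F.map (c1 ≫ b1) ≫ $h1)
  have h2' := congr(G ◁ F.map (c1 ≫ b2) ≫ $h2)
  have h3' := congr(G ◁ F.map c3 ≫ $h3)
  simp only [← Category.assoc, ← MonoidalCategory.whiskerLeft_comp, ← F.map_comp] at h1' h2' h3'
  have t1 : (c1 ≫ b1) ≫ a1 = φ := by simp [φ]
  have t2 : (c1 ≫ b2) ≫ a2 = φ := by simp [hφ2]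
  have t3 : c3 ≫ a3 = φ := by simp [hφ3]
  rw [t1] at h1'
  rw [t2] at h2'
  rw [t3] at h3'
  refine ⟨k, r'.res (F.map φ), ?_, ?_, ?_, ?_⟩
  · rw [Raw.res_res, c.w]
  · refine Raw.assoc_of_univ _ ?_
    simpa [Raw.comp_mul] using h1'
  · refine Raw.one_mul_of_univ _ ?_
    simpa [Raw.comp_mul, Raw.comp_one] using h2'
  · refine Raw.inv_mul_of_univ _ ?_
    simpa [Raw.comp_mul, Raw.comp_one, Raw.comp_inv] using h3'

/-- Homomorphisms descend. -/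
theorem exists_isHom (hE : HasExt c Q H) (hU : HasUniq c Q H) (hG : Q G)
    (hGG : Q (G ⊗ G)) {j : J} (r : Raw G (F.obj j)) (r' : Raw H (F.obj j)) (u : G ⊗ c.pt ⟶ H)
    (hu : IsHom (r.res (c.π.app j)) (r'.res (c.π.app j)) u) :
    ∃ (k : J) (a : k ⟶ j) (u' : G ⊗ F.obj k ⟶ H), G ◁ c.π.app k ≫ u' = u ∧
      IsHom (r.res (F.map a)) (r'.res (F.map a)) u' := by
  obtain ⟨k0, u0, hu0⟩ := hE _ hG u
  obtain ⟨k1, a0, b0, -⟩ := IsCofilteredOrEmpty.cone_objs k0 j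
  let u1 : G ⊗ F.obj k1 ⟶ H := G ◁ F.map a0 ≫ u0
  have hu1 : G ◁ c.π.app k1 ≫ u1 = u := by
    simp only [u1]
    rw [← Category.assoc, ← MonoidalCategory.whiskerLeft_comp, c.w, hu0]
  obtain ⟨k, a, h⟩ := exists_eq hU hGG
    (ap u1 (snd (G ⊗ G) (F.obj k1))
      ((r.res (F.map b0)).mul (snd _ _) (fst _ _ ≫ fst _ _) (fst _ _ ≫ snd _ _)))
    ((r'.res (F.map b0)).mul (snd _ _) (ap u1 (snd _ _) (fst _ _ ≫ fst _ _))
      (ap u1 (snd _ _) (fst _ _ ≫ snd _ _))) (by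
      have := hu (snd (G ⊗ G) c.pt) (fst _ _ ≫ fst _ _) (fst _ _ ≫ snd _ _)
      rw [← hu1] at this
      simpa [Raw.comp_mul, comp_ap] using this)
  refine ⟨k, a ≫ b0, G ◁ F.map a ≫ u1, ?_, ?_⟩
  · rw [← Category.assoc, ← MonoidalCategory.whiskerLeft_comp, c.w, hu1]
  · refine isHom_of_univ ?_
    simpa [Raw.comp_mul, comp_ap] using h

end Descent

end Groth.Agent.Sga3.H515.ParGrp
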